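import Groth.Agent.PicLiftCurve.Main
import Groth.Agent.HensCouple7.ProperPair

/-!
Connected closed subsets of a proper scheme over a henselian noetherian local ring meet the closed fibre in
nonempty connected sets.
-/

set_option autoImplicit false
set_option backward.isDefEq.respectTransparency false
set_option backward.isDefEq.respectTransparency.types false
set_option linter.style.haveILetI false

universe u

open CategoryTheory CategoryTheory.Limits AlgebraicGeometry TopologicalSpace IsLocalRing Topology

namespace Groth.Agent.PicLiftCurve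

theorem zeroLocus_maximalIdeal_eq (A : Type u) [CommRing A] [IsLocalRing A] :
    PrimeSpectrum.zeroLocus (maximalIdeal A : Set A) = {closedPoint A} := by
  ext s
  rw [Set.mem_singleton_iff, PrimeSpectrum.mem_zeroLocus, SetLike.coe_subset_coe]
  exact ⟨fun h => PrimeSpectrum.ext (((IsLocalRing.maximalIdeal.isMaximal A).eq_of_le s.isPrime.ne_top h).symm),
    fun h => h ▸ le_rfl⟩

/-- The closed fibre meets every connected closed subset in a nonempty connected set. -/
theorem meetsConn_closedFibre (A : Type u) [CommRing A] [IsNoetherianRing A] [HenselianLocalRing A]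
    {X : Scheme.{u}} (f : X ⟶ Spec (CommRingCat.of A)) [IsProper f] :
    MeetsConn (f.base ⁻¹' {closedPoint A}) := by
  intro Y hY hne hconn
  let I := Scheme.IdealSheafData.vanishingIdeal (⟨Y, hY⟩ : Closeds X)
  let W := I.subscheme
  let j : W ⟶ X := I.subschemeι
  have hj : Set.range j.base = Y := by
    show Set.range I.subschemeι = Y
    rw [I.range_subschemeι]
    exact Scheme.IdealSheafData.coe_support_vanishingIdeal _
  let q : W ⟶ Spec (CommRingCat.of A) := j ≫ f
  haveI : IsProper q := inferInstance
  haveI : ConnectedSpace W := by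
    rw [connectedSpace_iff_univ]
    refine ⟨?_, ?_⟩
    · obtain ⟨y, hy⟩ := hne
      rw [← hj] at hy
      obtain ⟨w, -⟩ := hy
      exact ⟨w, trivial⟩
    · rw [← j.isClosedEmbedding.isInducing.isPreconnected_image, Set.image_univ, hj]
      exact hconn.isPreconnected
  have hlift := HensCouple7.lifts_proper (maximalIdeal A) q
  rw [zeroLocus_maximalIdeal_eq] at hlift
  have himage : Y ∩ f.base ⁻¹' {closedPoint A} = j.base '' (q.base ⁻¹' {closedPoint A}) := by
    show Y ∩ f.base ⁻¹' {closedPoint A} = j.base '' (j.base ⁻¹' (f.base ⁻¹' {closedPoint A}))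
    rw [Set.image_preimage_eq_range_inter, hj]
  rw [himage]
  obtain ⟨w⟩ := (inferInstance : Nonempty W)
  obtain ⟨w', -, hw'⟩ := q.isClosedMap.specializingMap (a := w) (IsLocalRing.specializes_closedPoint (q w))
  refine ⟨⟨j w', w', hw', rfl⟩, IsConnected.image ?_ _ j.continuous.continuousOn⟩
  refine ⟨⟨w', hw'⟩, ?_⟩
  rw [isPreconnected_iff_preconnectedSpace]
  refine preconnectedSpace_of_forall_constant fun g hg => ?_
  intro a b
  by_contra hab
  obtain ⟨U, ⟨hU, hUV⟩, -⟩ := hlift (g ⁻¹' {g a}) ((isClopen_discrete {g a}).preimage hg)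
  rcases isClopen_iff.mp hU with rfl | rfl
  · exact (Set.ext_iff.1 hUV a).2 rfl
  · exact hab ((Set.ext_iff.1 hUV b).1 trivial).symm

theorem topologicalKrullDim_closedFibre_le (A : Type u) [CommRing A] [IsLocalRing A] {X X₀ : Scheme.{u}}
    (f : X ⟶ Spec (CommRingCat.of A)) (i : X₀ ⟶ X) [IsClosedImmersion i]
    (hi : Set.range i.base = f.base ⁻¹' {closedPoint A})
    (hrel : topologicalKrullDim
      ↥(pullback f ((Spec (CommRingCat.of A)).fromSpecResidueField (closedPoint A))) ≤ 1) :
    topologicalKrullDim X₀ ≤ 1 := by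
  let h : X₀ ≃ₜ ↥(f.fiber (closedPoint A)) :=
    (i.isClosedEmbedding.isEmbedding.toHomeomorph.trans (Homeomorph.setCongr hi)).trans
      (f.fiberHomeo (closedPoint A)).symm
  rw [IsHomeomorph.topologicalKrullDim_eq h h.isHomeomorph]
  exact hrel

end Groth.Agent.PicLiftCurve
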