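import Groth.Agent.PicLiftCurve.Top
import Groth.Agent.PicGlue.Glue
import Groth.Agent.InvX.Tensor

/-!
Invertible modules on a closed subscheme of dimension at most one meeting connected closed sets in connected sets
extend to the ambient scheme.
-/

set_option autoImplicit false
set_option backward.isDefEq.respectTransparency false
set_option backward.isDefEq.respectTransparency.types false
set_option linter.style.haveILetI false

universe u

open CategoryTheory AlgebraicGeometry TopologicalSpace Opposite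

namespace Groth.Agent.PicLiftCurve

open Groth.Agent.AModX

variable {X X₀ : Scheme.{u}}

/-- An invertible module on a noetherian scheme has a frame on an open containing all generic points. -/
theorem exists_generic_frame [NoetherianSpace X₀] {L : X₀.Modules} (hL : PicF.IsInvertible L) :
    ∃ (O : X₀.Opens) (e : Γ(L, O)), genericPoints X₀ ⊆ (O : Set X₀) ∧ InvX.IsFrame e := by
  obtain ⟨O, hO, hdisj⟩ := PicGlue.exists_nhd_generic (Y := X₀)
  choose U hU e he using fun η : genericPoints X₀ => InvX.exists_frame hL (η : X₀)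
  let W : genericPoints X₀ → X₀.Opens := fun η => O η ⊓ U η
  let V : X₀.Opens := ⨆ η, W η
  have hW : ∀ η, W η ≤ V := fun η => le_iSup W η
  let f : ∀ η, Γ(L, W η) := fun η => res L inf_le_right (e η)
  have hf : ∀ η, InvX.IsFrame (f η) := fun η => (he η).res inf_le_right
  obtain ⟨t, ht, -⟩ := existsUnique_glue (M := L) (V := V) W hW
    (fun p hp => Opens.mem_iSup.mp hp) f fun a b => by
      by_cases hab : a = b
      · subst hab
        rfl
      · refine eq_of_locally _ _ fun p hp => ?_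
        have : p ∈ O a ⊓ O b := ⟨hp.1.1, hp.2.1⟩
        rw [hdisj a b hab] at this
        exact this.elim
  refine ⟨V, t, fun η hη => Opens.mem_iSup.mpr ⟨⟨η, hη⟩, hO _, hU _⟩, InvX.isFrame_of_germ fun x hx => ?_⟩
  obtain ⟨η, hη⟩ := Opens.mem_iSup.mp hx
  rw [show L.presheaf.germ V x hx t = L.presheaf.germ (W η) x hη (f η) by
    rw [← ht η]; exact (InvX.germ_res' (hW η) hη t).symm]
  exact (hf η).germ_bijective hη

theorem isClosed_of_finite {T : Type*} [TopologicalSpace T] {s : Set T} (hs : s.Finite)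
    (h : ∀ y ∈ s, IsClosed ({y} : Set T)) : IsClosed s := by
  rw [← Set.biUnion_of_singleton s]
  exact hs.isClosed_biUnion h

theorem exists_opens_of_embedding (i : X₀ ⟶ X) [IsClosedImmersion i] (O : X₀.Opens) :
    ∃ O' : X.Opens, i ⁻¹ᵁ O' = O := by
  obtain ⟨s, hs, he⟩ := i.isClosedEmbedding.isInducing.isOpen_iff.mp O.2
  exact ⟨⟨s, hs⟩, Opens.ext he⟩

/-- Local data at a point outside the trivialising open: the transition unit is the restriction of a quotient of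
functions on the ambient scheme. -/
theorem exists_local [NoetherianSpace X₀] (i : X₀ ⟶ X) [IsClosedImmersion i] {L : X₀.Modules}
    (hL : PicF.IsInvertible L) (hdim : topologicalKrullDim X₀ ≤ 1) {O : X₀.Opens}
    (hO : genericPoints X₀ ⊆ (O : Set X₀)) {e₀ : Γ(L, O)} (he₀ : InvX.IsFrame e₀) {x : X₀} (hx : x ∉ O) :
    ∃ (U : X.Opens) (e : Γ(L, i ⁻¹ᵁ U)) (D : X.Opens) (u : Γ(X, D)) (_ : D ≤ U) (hDO : i ⁻¹ᵁ D ≤ O)
      (hDU : i ⁻¹ᵁ D ≤ i ⁻¹ᵁ U), i x ∈ U ∧ InvX.IsFrame e ∧ i x ∉ D ∧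
      (∀ y, i y ∈ U → y ≠ x → i y ∈ D) ∧ IsUnit u ∧
      res L hDU e = i.app D u • res L hDO e₀ := by
  obtain ⟨hfin, hclosed⟩ := PicGlue.finite_compl hdim O hO
  let F : Set X₀ := (O : Set X₀)ᶜ \ {x}
  have hF : IsClosed F := isClosed_of_finite (hfin.subset Set.sdiff_subset) fun y hy => hclosed y hy.1
  obtain ⟨Wf, hxW, eW, heW⟩ := InvX.exists_frame hL x
  obtain ⟨O₁, hO₁⟩ := exists_opens_of_embedding i (Wf ⊓ ⟨Fᶜ, hF.isOpen_compl⟩)
  obtain ⟨U₁, hU₁, hxU₁, hU₁O⟩ := exists_isAffineOpen_mem_and_subset (x := i x) (U := O₁)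
    (show x ∈ i ⁻¹ᵁ O₁ by rw [hO₁]; exact ⟨hxW, fun h => h.2 rfl⟩)
  let W₁ := i ⁻¹ᵁ U₁
  have hW₁ : IsAffineOpen W₁ := hU₁.preimage i
  have hW₁le : W₁ ≤ Wf ⊓ ⟨Fᶜ, hF.isOpen_compl⟩ := fun y hy => hO₁ ▸ (show y ∈ i ⁻¹ᵁ O₁ from hU₁O hy)
  let m := hW₁.primeIdealOf ⟨x, hxU₁⟩
  let G : Set X₀ := genericPoints X₀ ∩ (W₁ : Set X₀)
  have hG : G.Finite := by
    obtain ⟨O', hO', hdisj⟩ := PicGlue.exists_nhd_generic (Y := X₀)
    refine (Set.Finite.subset ?_ Set.inter_subset_left)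
    haveI : Finite (irreducibleComponents X₀) := NoetherianSpace.finite_irreducibleComponents.to_subtype
    have hinj : Function.Injective fun η : genericPoints X₀ =>
        (⟨closure {(η : X₀)}, η.2⟩ : irreducibleComponents X₀) :=
      fun a b h => Subtype.ext (inseparable_iff_closure_eq.2 (congrArg Subtype.val h)).eq
    exact Set.finite_coe_iff.mp (Finite.of_injective _ hinj)
  have hxgen : x ∉ genericPoints X₀ := fun h => hx (hO h)
  classical
  let Q : Finset (PrimeSpectrum Γ(X₀, W₁)) := hG.toFinset.attach.image fun g =>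
    hW₁.primeIdealOf ⟨g.1, (hG.mem_toFinset.mp g.2).2⟩
  have hnot : ¬ (m.asIdeal : Set Γ(X₀, W₁)) ⊆ ⋃ q ∈ (↑Q : Set (PrimeSpectrum Γ(X₀, W₁))), (q.asIdeal : Set Γ(X₀, W₁)) := by
    rw [Ideal.subset_union_prime m m (fun q _ _ _ => q.2)]
    rintro ⟨q, hq, hle⟩
    obtain ⟨⟨g, hg⟩, -, rfl⟩ := Finset.mem_image.mp hq
    have hgW := (hG.mem_toFinset.mp hg).2
    have hsp : (⟨x, hxU₁⟩ : W₁) ⤳ (⟨g, hgW⟩ : W₁) := by
      have h1 : m ⤳ hW₁.primeIdealOf ⟨g, hgW⟩ := (PrimeSpectrum.le_iff_specializes _ _).mp hle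
      have h2 := h1.map hW₁.fromSpec.continuous
      rw [hW₁.fromSpec_primeIdealOf, hW₁.fromSpec_primeIdealOf] at h2
      exact (subtype_specializes_iff _ _).2 h2
    have hsp' : x ⤳ g := hsp.map continuous_subtype_val
    have hgen := (hG.mem_toFinset.mp hg).1
    have hsub : closure {g} ⊆ closure {x} :=
      closure_minimal (Set.singleton_subset_iff.2 hsp'.mem_closure) isClosed_closure
    have heq : closure ({g} : Set X₀) = closure {x} :=
      Set.Subset.antisymm hsub (hgen.2 (isIrreducible_singleton.closure) hsub)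
    exact hxgen ((inseparable_iff_closure_eq.2 heq).eq ▸ hgen)
  obtain ⟨b₀, hb₀m, hb₀⟩ := Set.not_subset.mp hnot
  have hxb : x ∉ X₀.basicOpen b₀ := fun h =>
    (PrimeSpectrum.mem_basicOpen b₀ m).mp (by
      show m ∈ PrimeSpectrum.basicOpen b₀
      rw [← hW₁.fromSpec_preimage_basicOpen b₀]
      show hW₁.fromSpec m ∈ X₀.basicOpen b₀
      rw [hW₁.fromSpec_primeIdealOf]; exact h) hb₀m
  have hgenb : ∀ y ∈ W₁, y ∉ X₀.basicOpen b₀ → IsClosed ({y} : Set X₀) := fun y hy hyb => by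
    refine (PicGlue.isClosed_or_mem_genericPoints hdim y).resolve_right fun hgen => hb₀ ?_
    have hyG : y ∈ hG.toFinset := hG.mem_toFinset.mpr ⟨hgen, hy⟩
    refine Set.mem_iUnion₂.mpr ⟨hW₁.primeIdealOf ⟨y, hy⟩,
      Finset.mem_image.mpr ⟨⟨y, hyG⟩, Finset.mem_attach _ _, rfl⟩, ?_⟩
    by_contra hc
    refine hyb ?_
    have h1 : hW₁.primeIdealOf ⟨y, hy⟩ ∈ hW₁.fromSpec ⁻¹ᵁ X₀.basicOpen b₀ := by
      rw [hW₁.fromSpec_preimage_basicOpen b₀]; exact hc
    have h2 : hW₁.fromSpec (hW₁.primeIdealOf ⟨y, hy⟩) ∈ X₀.basicOpen b₀ := h1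
    rwa [hW₁.fromSpec_primeIdealOf] at h2
  let F₂ : Set W₁.toScheme := {y | y.1 ∉ X₀.basicOpen b₀}
  haveI : NoetherianSpace W₁.toScheme := W₁.ι.isOpenEmbedding.isInducing.noetherianSpace
  have hF₂ : F₂.Finite := finite_of_closedPoints
    ((X₀.basicOpen b₀).2.preimage continuous_subtype_val).isClosed_compl fun y hy => by
      have := (hgenb y.1 y.2 hy).preimage (continuous_subtype_val (p := fun z => z ∈ W₁))
      rw [show ({y} : Set _) = Subtype.val ⁻¹' {y.1} from Set.ext fun z => Subtype.ext_iff]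
      exact this
  let F₃ : Set X₀ := Subtype.val '' F₂ \ {x}
  have hF₃ : IsClosed F₃ := isClosed_of_finite ((hF₂.image _).subset Set.sdiff_subset) fun y hy => by
    obtain ⟨⟨z, hz, rfl⟩, -⟩ := hy
    exact hgenb z.1 z.2 hz
  obtain ⟨O₂, hO₂⟩ := exists_opens_of_embedding i (W₁ ⊓ ⟨F₃ᶜ, hF₃.isOpen_compl⟩)
  obtain ⟨U, hU, hxU, hUO⟩ := exists_isAffineOpen_mem_and_subset (x := i x) (U := O₂ ⊓ U₁)
    (show x ∈ i ⁻¹ᵁ (O₂ ⊓ U₁) from ⟨(show x ∈ i ⁻¹ᵁ O₂ by rw [hO₂]; exact ⟨hxU₁, fun h => h.2 rfl⟩), hxU₁⟩)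
  let W₂ := i ⁻¹ᵁ U
  have hW₂W : W₂ ≤ W₁ := fun y hy => (hUO hy).2
  have hW₂ : IsAffineOpen W₂ := hU.preimage i
  have hother : ∀ y ∈ W₂, y ≠ x → y ∈ X₀.basicOpen b₀ := fun y hy hyx => by
    by_contra hyb
    have : y ∈ i ⁻¹ᵁ O₂ := (hUO hy).1
    rw [hO₂] at this
    exact this.2 ⟨⟨⟨y, hW₂W hy⟩, hyb, rfl⟩, hyx⟩
  have hinO : ∀ y ∈ W₂, y ≠ x → y ∈ O := fun y hy hyx => by
    by_contra hyO
    exact (hW₁le (hW₂W hy)).2 ⟨hyO, hyx⟩
  obtain ⟨bb, hbb⟩ := i.app_surjective U hU (resR hW₂W b₀)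
  have hP : i ⁻¹ᵁ X.basicOpen bb = X₀.basicOpen b₀ ⊓ W₂ := by
    rw [Scheme.preimage_basicOpen, hbb]
    show X₀.basicOpen (X₀.presheaf.map _ b₀) = _
    rw [Scheme.basicOpen_res, inf_comm]
  let P := i ⁻¹ᵁ X.basicOpen bb
  have hPW : P ≤ W₂ := i.preimage_mono (X.basicOpen_le bb)
  have hPO : P ≤ O := fun y hy => by
    have hy' : y ∈ X₀.basicOpen b₀ ⊓ W₂ := hP ▸ hy
    exact hinO y hy'.2 fun h => hxb (h ▸ hy'.1)
  have hW₂f : W₂ ≤ Wf := fun y hy => (hW₁le (hW₂W hy)).1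
  obtain ⟨r, hr⟩ := (he₀.res hPO).exists_coord le_rfl (res L (hPW.trans hW₂f) eW)
  rw [res_self] at hr
  have hru : IsUnit r := by
    obtain ⟨r', hr'⟩ := (heW.res (hPW.trans hW₂f)).exists_coord le_rfl (res L hPO e₀)
    rw [res_self] at hr'
    refine IsUnit.of_mul_eq_one r' ?_
    refine (he₀.res hPO).coord_unique le_rfl ?_
    rw [res_self, one_smul, mul_comm, mul_smul, ← hr]
    exact hr'.symm
  have hPbasic : P = X₀.basicOpen (i.app U bb) := Scheme.preimage_basicOpen i bb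
  letI : Algebra Γ(X₀, W₂) Γ(X₀, P) := (resR hPW).toAlgebra
  have hloc : IsLocalization.Away (i.app U bb) Γ(X₀, P) := by
    have key : ∀ (P : X₀.Opens) (hle : P ≤ W₂), P = X₀.basicOpen (i.app U bb) →
        @IsLocalization.Away _ _ (i.app U bb) Γ(X₀, P) _ (resR hle).toAlgebra := by
      rintro _ hle rfl
      exact hW₂.isLocalization_basicOpen (i.app U bb)
    exact key P hPW hPbasic
  obtain ⟨⟨a₀, ⟨_, k, rfl⟩⟩, hak⟩ := IsLocalization.surj (Submonoid.powers (i.app U bb)) r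
  obtain ⟨aa, haa⟩ := i.app_surjective U hU a₀
  let D := X.basicOpen aa ⊓ X.basicOpen bb
  have hDU : D ≤ U := inf_le_right.trans (X.basicOpen_le bb)
  have hak' : r * resR hPW (i.app U bb) ^ k = resR hPW (i.app U aa) := by
    rw [haa, ← map_pow]; exact hak
  have hPa : P ≤ i ⁻¹ᵁ X.basicOpen aa := by
    rw [Scheme.preimage_basicOpen]
    have hu : IsUnit (resR hPW (i.app U aa)) := by
      rw [← hak']
      exact hru.mul ((AModX.isUnit_resR hPW _ hPbasic.le).pow k)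
    have h1 := X₀.basicOpen_of_isUnit hu
    calc P = X₀.basicOpen (X₀.presheaf.map (homOfLE hPW).op (i.app U aa)) := h1.symm
      _ ≤ X₀.basicOpen (i.app U aa) := by rw [Scheme.basicOpen_res]; exact inf_le_right
  have ha : IsUnit (resR hDU aa) := AModX.isUnit_resR hDU aa inf_le_left
  have hb : IsUnit (resR hDU bb) := AModX.isUnit_resR hDU bb inf_le_right
  let u : Γ(X, D) := resR hDU aa * ↑(hb.pow k).unit⁻¹
  have hDP : i ⁻¹ᵁ D ≤ P := i.preimage_mono inf_le_right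
  refine ⟨U, res L hW₂f eW, D, u, hDU, hDP.trans hPO, hDP.trans hPW, hxU, heW.res _, ?_, ?_, ?_, ?_⟩
  · intro h
    have : x ∈ X₀.basicOpen b₀ ⊓ W₂ := hP ▸ (show x ∈ P from h.2)
    exact hxb this.1
  · intro y hy hyx
    have hyP : y ∈ P := by
      show y ∈ i ⁻¹ᵁ X.basicOpen bb
      rw [hP]
      exact ⟨hother y hy hyx, hy⟩
    exact ⟨hPa hyP, hyP⟩
  · exact ha.mul (Units.isUnit _)
  · have e1 : i.app D u = resR hDP r := by
      have hunit : IsUnit (resR (hDP.trans hPW) (i.app U bb) ^ k) := by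
        rw [show resR (hDP.trans hPW) (i.app U bb) = i.app D (resR hDU bb) from (PicGlue.app_resR i hDU bb)]
        exact (hb.map (i.app D).hom).pow k
      refine hunit.mul_right_cancel ?_
      calc i.app D u * resR (hDP.trans hPW) (i.app U bb) ^ k
          = i.app D (u * resR hDU bb ^ k) := by
            rw [map_mul (i.app D).hom u, map_pow, show resR (hDP.trans hPW) (i.app U bb) = i.app D (resR hDU bb) from
              PicGlue.app_resR i hDU bb]
        _ = i.app D (resR hDU aa) := by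
            rw [mul_assoc]
            rw [show ↑(hb.pow k).unit⁻¹ * resR hDU bb ^ k = 1 from IsUnit.val_inv_mul _, mul_one]
        _ = resR (hDP.trans hPW) (i.app U aa) := (PicGlue.app_resR i hDU aa).symm
        _ = resR hDP (resR hPW (i.app U aa)) := (resR_resR _ _ _).symm
        _ = resR hDP r * resR (hDP.trans hPW) (i.app U bb) ^ k := by
            rw [← hak', map_mul, map_pow, resR_resR]
    have h3 := congrArg (res L hDP) hr
    rw [res_res, res_smul, res_res] at h3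
    rw [res_res, h3, e1]

/-- Invertible modules on `X₀` extend to `X`. -/
theorem exists_lift [IsNoetherian X] (i : X₀ ⟶ X) [IsClosedImmersion i] (hdim : topologicalKrullDim X₀ ≤ 1)
    (hb : MeetsConn (Set.range i.base)) (c : PicF.Cl X₀) (hc : PicF.IsInvertibleCl c) :
    ∃ d : PicF.Cl X, PicF.IsInvertibleCl d ∧ PicF.pullCl i d = c := by
  classical
  obtain ⟨L, rfl, hL⟩ := hc
  haveI : NoetherianSpace X₀ := i.isClosedEmbedding.isInducing.noetherianSpace
  obtain ⟨O, e₀, hO, he₀⟩ := exists_generic_frame hL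
  obtain ⟨hfin, hclosed⟩ := PicGlue.finite_compl hdim O hO
  let ι₀ := ↥((O : Set X₀)ᶜ)
  haveI : Finite ι₀ := hfin.to_subtype
  choose U e D u hDU hDO hDU' hxU he hxD hD hu hrel using
    fun x : ι₀ => exists_local i hL hdim hO he₀ (x := x.1) x.2
  have hxcl : ∀ x : ι₀, IsClosed ({i x.1} : Set X) := fun x => by
    simpa using i.isClosedEmbedding.isClosedMap _ (hclosed x.1 x.2)
  let C : ι₀ → Set X := fun x => closure ((U x : Set X) \ (D x : Set X))
  have hCR : ∀ (x : ι₀) z, z ∈ C x → z ∈ U x → z ∈ Set.range i.base → z = i x.1 := by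
    rintro x _ hz hzU ⟨y, rfl⟩
    by_contra hne
    have hyD : i y ∈ D x := hD x y hzU fun h => hne (congrArg (fun t => i t) h)
    obtain ⟨w, hwD, -, hwnD⟩ := mem_closure_iff.mp hz _ (D x).2 hyD
    exact hwnD hwD
  choose Y hYcl hYconn hxY hYU hYC hYR hYrest using fun x : ι₀ =>
    exists_piece hb (U x).2 (isClosed_closure : IsClosed (C x)) (x := i x.1) (hxU x) (subset_closure (show i x.1 ∈ (U x : Set X) \ (D x : Set X) from ⟨hxU x, hxD x⟩))
      (Set.mem_range_self x.1) (hxcl x) (hCR x)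
  have hYdisj : ∀ x x' : ι₀, x ≠ x' → Disjoint (Y x) (Y x') := fun x x' h =>
    disjoint_pieces hb (hYcl x) (hYcl x') (hYconn x) (hYconn x') (hYR x) (hYR x') (hxcl x) (hxcl x')
      fun e => h (Subtype.ext (i.isClosedEmbedding.injective e))
  let U₀ : X.Opens := ⟨(⋃ x, Y x)ᶜ, (isClosed_iUnion_of_finite hYcl).isOpen_compl⟩
  let V : ι₀ → X.Opens := fun x =>
    U x ⊓ ⟨(C x \ Y x ∪ ⋃ x' : {x' : ι₀ // x' ≠ x}, Y x'.1)ᶜ,
      ((hYrest x).union (isClosed_iUnion_of_finite fun x' : {x' : ι₀ // x' ≠ x} => hYcl x'.1)).isOpen_compl⟩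
  have hpre : i ⁻¹ᵁ U₀ = O := by
    refine Opens.ext (Set.ext fun y => ?_)
    show (i y ∈ (⋃ x, Y x)ᶜ) ↔ y ∈ O
    rw [Set.mem_compl_iff, Set.mem_iUnion]
    constructor
    · intro h
      by_contra hy
      exact h ⟨⟨y, hy⟩, hxY ⟨y, hy⟩⟩
    · rintro hy ⟨x, hx⟩
      have : i y ∈ Y x ∩ Set.range i.base := ⟨hx, ⟨y, rfl⟩⟩
      rw [hYR x] at this
      exact x.2 (i.isClosedEmbedding.injective this ▸ hy)
  have hVU₀ : ∀ x, V x ⊓ U₀ ≤ D x := fun x z hz => by
    by_contra hzD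
    have hzC : z ∈ C x := subset_closure ⟨hz.1.1, hzD⟩
    exact hz.1.2 (Or.inl ⟨hzC, fun h => hz.2 (Set.mem_iUnion.mpr ⟨x, h⟩)⟩)
  let Uc : Option ι₀ → X.Opens := fun o => o.elim U₀ V
  have hcov : ∀ z, ∃ o, z ∈ Uc o := fun z => by
    by_cases hz : z ∈ U₀
    · exact ⟨none, hz⟩
    · have hz' : z ∈ ⋃ x, Y x := not_not.mp hz
      obtain ⟨x, hx⟩ := Set.mem_iUnion.mp hz'
      refine ⟨some x, hYU x hx, ?_⟩
      rintro (⟨-, hn⟩ | h)
      · exact hn hx
      · obtain ⟨x', hx'⟩ := Set.mem_iUnion.mp h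
        exact Set.disjoint_left.mp (hYdisj x'.1 x x'.2) hx' hx
  have hUV : ∀ o o', o ≠ o' → Uc o ⊓ Uc o' ≤ U₀ := by
    intro o o' h z hz
    rcases o with _ | x
    · exact hz.1
    rcases o' with _ | x'
    · exact hz.2
    show z ∉ ⋃ x, Y x
    rintro hzY
    obtain ⟨x'', hx''⟩ := Set.mem_iUnion.mp hzY
    by_cases h1 : x'' = x
    · subst h1
      exact hz.2.2 (Or.inr (Set.mem_iUnion.mpr ⟨⟨x'', fun e => h (congrArg some e)⟩, hx''⟩))
    · exact hz.1.2 (Or.inr (Set.mem_iUnion.mpr ⟨⟨x'', h1⟩, hx''⟩))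
  let uc : ∀ o, (Γ(X, Uc o ⊓ U₀))ˣ := fun o => match o with
    | none => 1
    | some x => Units.map (resR (hVU₀ x)).toMonoidHom (hu x).unit
  obtain ⟨t, htd, htg⟩ := PicGlue.exists_starCocycle Uc U₀ hUV uc
  let fr : ∀ o, Γ(L, i ⁻¹ᵁ Uc o) := fun o => match o with
    | none => res L hpre.le e₀
    | some x => res L (i.preimage_mono inf_le_left) (e x)
  have hfr : ∀ o, InvX.IsFrame (fr o) := fun o => match o with
    | none => he₀.res _
    | some x => (he x).res _
  have key : ∀ o (W : X.Opens) (h : W ≤ Uc o) (h' : W ≤ U₀),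
      res L (i.preimage_mono h) (fr o) = i.app W (resR (le_inf h h') (uc o : Γ(X, Uc o ⊓ U₀))) •
        res L ((i.preimage_mono h').trans hpre.le) e₀ := by
    intro o W h h'
    rcases o with _ | x
    · simp only [fr, uc, Units.val_one, map_one, one_smul]
      exact res_res _ _ _
    · show res L _ (res L _ (e x)) = i.app W (resR _ (resR (hVU₀ x) (u x))) • _
      have hWD : W ≤ D x := (le_inf h h').trans (hVU₀ x)
      have h3 := congrArg (res L (i.preimage_mono hWD)) (hrel x)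
      rw [res_res, res_smul, res_res, PicGlue.app_resR] at h3
      rw [res_res, resR_resR]
      exact h3
  obtain ⟨N, hN, hiso⟩ := PicGlue.exists_glue (κ := PUnit.{1}) (fun _ => i) (L := fun _ => L) hcov
    (e := fun _ o => fr o) (fun _ o => hfr o) t (by
      intro _ o o'
      by_cases h : o = o'
      · subst h
        rw [htd, map_one, one_smul]
      · have hW := hUV o o' h
        rw [key o _ inf_le_left hW, key o' _ inf_le_right hW, htg o o' h, ← mul_smul, map_mul, mul_assoc,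
          ← map_mul, ← map_mul]
        congr 2
        erw [← map_mul, Units.inv_mul, map_one, mul_one])
  obtain ⟨φ⟩ := hiso PUnit.unit
  exact ⟨PicF.cl N, ⟨N, rfl, hN⟩, Quot.sound ⟨φ⟩⟩

end Groth.Agent.PicLiftCurve
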