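import Groth.Agent.PicGlue.Dim

/-!
Closed pieces through an isolated point of the intersection with a closed set meeting connected closed sets in
connected sets.
-/

set_option autoImplicit false

universe u

open CategoryTheory AlgebraicGeometry TopologicalSpace Topology

namespace Groth.Agent.PicLiftCurve

variable {T : Type u} [TopologicalSpace T]

/-- Nonempty connected closed sets meet `R` in nonempty connected sets. -/
def MeetsConn (R : Set T) : Prop :=
  ∀ Y : Set T, IsClosed Y → Y.Nonempty → IsConnected Y → (Y ∩ R).Nonempty ∧ IsConnected (Y ∩ R)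

theorem isClosed_connectedComponentIn {F : Set T} (hF : IsClosed F) (z : T) : IsClosed (connectedComponentIn F z) := by
  by_cases hz : z ∈ F
  · rw [connectedComponentIn_eq_image hz]
    exact hF.isClosedEmbedding_subtypeVal.isClosedMap _ isClosed_connectedComponent
  · rw [connectedComponentIn_eq_empty hz]
    exact isClosed_empty

theorem eq_singleton_of_isolated {K : Set T} (hK : IsPreconnected K) {x : T} (hx : x ∈ K)
    (hxcl : IsClosed ({x} : Set T)) {U : Set T} (hU : IsOpen U) (hxU : x ∈ U) (h : ∀ z ∈ K, z ∈ U → z = x) :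
    K = {x} := by
  refine Set.eq_singleton_iff_unique_mem.mpr ⟨hx, fun z hz => ?_⟩
  by_contra hne
  obtain ⟨w, hwK, hwU, hwc⟩ := hK U {x}ᶜ hU hxcl.isOpen_compl
    (fun w _ => (em (w = x)).elim (fun e => Or.inl (e ▸ hxU)) Or.inr) ⟨x, hx, hxU⟩ ⟨z, hz, hne⟩
  exact hwc (h w hwK hwU)

/-- The piece of `C` through an isolated point of `C ∩ R`. -/
theorem exists_piece [NoetherianSpace T] {R : Set T} (hb : MeetsConn R) {U C : Set T} (hU : IsOpen U)
    (hC : IsClosed C) {x : T} (hxU : x ∈ U) (hxC : x ∈ C) (hxR : x ∈ R) (hxcl : IsClosed ({x} : Set T))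
    (h : ∀ z ∈ C, z ∈ U → z ∈ R → z = x) :
    ∃ Y : Set T, IsClosed Y ∧ IsConnected Y ∧ x ∈ Y ∧ Y ⊆ U ∧ Y ⊆ C ∧ Y ∩ R = {x} ∧ IsClosed (C \ Y) := by
  let Y := connectedComponentIn C x
  have hYcl : IsClosed Y := isClosed_connectedComponentIn hC x
  have hYconn : IsConnected Y := ⟨⟨x, mem_connectedComponentIn hxC⟩, isPreconnected_connectedComponentIn⟩
  have hYC : Y ⊆ C := connectedComponentIn_subset C x
  have hxY : x ∈ Y := mem_connectedComponentIn hxC
  have hYR : Y ∩ R = {x} :=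
    eq_singleton_of_isolated (hb Y hYcl ⟨x, hxY⟩ hYconn).2.isPreconnected ⟨hxY, hxR⟩ hxcl hU hxU
      fun z hz hzU => h z (hYC hz.1) hzU hz.2
  have hYU : Y ⊆ U := by
    intro z hz
    by_contra hzU
    let D := connectedComponentIn (Y \ U) z
    have hD : IsClosed D := isClosed_connectedComponentIn (hYcl.sdiff hU) z
    have hzD : z ∈ D := mem_connectedComponentIn ⟨hz, hzU⟩
    obtain ⟨w, hwD, hwR⟩ := (hb D hD ⟨z, hzD⟩ ⟨⟨z, hzD⟩, isPreconnected_connectedComponentIn⟩).1
    have hw := connectedComponentIn_subset (Y \ U) z hwD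
    have hwx : w = x := by
      have : w ∈ Y ∩ R := ⟨hw.1, hwR⟩
      rw [hYR] at this
      exact this
    exact hw.2 (hwx ▸ hxU)
  refine ⟨Y, hYcl, hYconn, hxY, hYU, hYC, hYR, ?_⟩
  obtain ⟨S, hS, hSc, hSi, hSU⟩ := NoetherianSpace.exists_finite_set_isClosed_irreducible hC
  have : C \ Y = ⋃₀ {A ∈ S | A ∩ Y = ∅} := by
    ext z
    constructor
    · rintro ⟨hzC, hzY⟩
      rw [hSU] at hzC
      obtain ⟨A, hA, hzA⟩ := hzC
      refine ⟨A, ⟨hA, Set.not_nonempty_iff_eq_empty.mp fun ⟨w, hwA, hwY⟩ => hzY ?_⟩, hzA⟩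
      have hAC : A ⊆ C := hSU ▸ Set.subset_sUnion_of_mem hA
      exact (((hSi A hA).isConnected.isPreconnected).union w hwA hwY hYconn.isPreconnected).subset_connectedComponentIn
        (Or.inr hxY) (Set.union_subset hAC hYC) (Or.inl hzA)
    · rintro ⟨A, ⟨hA, hAY⟩, hzA⟩
      exact ⟨hSU ▸ ⟨A, hA, hzA⟩, fun hzY => (Set.eq_empty_iff_forall_notMem.mp hAY z) ⟨hzA, hzY⟩⟩
  rw [this]
  rw [Set.sUnion_eq_biUnion]
  exact Set.Finite.isClosed_biUnion (hS.subset (s := S) (t := {A ∈ S | A ∩ Y = ∅}) fun A hA => hA.1)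
    fun A hA => hSc A hA.1

theorem disjoint_pieces {R : Set T} (hb : MeetsConn R) {Y Y' : Set T} (hY : IsClosed Y) (hY' : IsClosed Y')
    (hc : IsConnected Y) (hc' : IsConnected Y') {x x' : T} (hR : Y ∩ R = {x}) (hR' : Y' ∩ R = {x'})
    (hx : IsClosed ({x} : Set T)) (hx' : IsClosed ({x'} : Set T)) (hne : x ≠ x') : Disjoint Y Y' := by
  rw [Set.disjoint_left]
  intro z hz hz'
  have hu : IsConnected (Y ∪ Y') := IsConnected.union ⟨z, hz, hz'⟩ hc hc'
  have hxY : x ∈ Y ∩ R := by rw [hR]; rfl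
  have hxY' : x' ∈ Y' ∩ R := by rw [hR']; rfl
  have := eq_singleton_of_isolated (hb _ (hY.union hY') hu.nonempty hu).2.isPreconnected
    (K := (Y ∪ Y') ∩ R) ⟨Or.inl hxY.1, hxY.2⟩ hx hx'.isOpen_compl hne fun w hw hwx' => by
      rcases hw.1 with hwY | hwY
      · have : w ∈ Y ∩ R := ⟨hwY, hw.2⟩
        rw [hR] at this
        exact this
      · have : w ∈ Y' ∩ R := ⟨hwY, hw.2⟩
        rw [hR'] at this
        exact absurd this hwx'
  have hmem : x' ∈ (Y ∪ Y') ∩ R := ⟨Or.inr hxY'.1, hxY'.2⟩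
  rw [this] at hmem
  exact hne hmem.symm

/-- A closed set consisting of closed points in a noetherian scheme is finite. -/
theorem finite_of_closedPoints {Y : Scheme.{u}} [NoetherianSpace Y] {F : Set Y} (hF : IsClosed F)
    (h : ∀ y ∈ F, IsClosed ({y} : Set Y)) : F.Finite := by
  obtain ⟨S, hS, hSc, hSi, hU⟩ := NoetherianSpace.exists_finite_set_isClosed_irreducible hF
  rw [hU]
  refine hS.sUnion fun C hC => ?_
  obtain ⟨c, hc⟩ := QuasiSober.sober (hSi C hC) (hSc C hC)
  have hcF : c ∈ F := hU ▸ ⟨C, hC, hc.mem⟩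
  rw [← hc.def, (h c hcF).closure_eq]
  exact Set.finite_singleton c

end Groth.Agent.PicLiftCurve
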